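import Groth.Agent.NodePush7.Loc
import Groth.Agent.TFQuot7.Basic
import Groth.Agent.AmpleVan.QAEpi
import Groth.Agent.ExistEasy.PP.PullSec
import Groth.Agent.QCoh.SubCompare
import Groth.Agent.NodeNorm7.PushStalk

/-! Direct images of torsion free modules along finite birational morphisms: linearity over the direct image of
the structure sheaf. -/

set_option autoImplicit false
set_option linter.style.haveILetI false
set_option linter.unusedSectionVars false
set_option backward.isDefEq.respectTransparency false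
set_option backward.isDefEq.respectTransparency.types false
set_option maxHeartbeats 1000000

universe u

noncomputable section

open CategoryTheory CategoryTheory.Limits AlgebraicGeometry TopologicalSpace Opposite

namespace Groth.Agent.NormPush7

open Groth.Agent

variable {X Y : Scheme.{u}} [IsIntegral X] [IsLocallyNoetherian X] [IsIntegral Y] (π : Y ⟶ X) [IsFinite π]
  {U₀ : X.Opens} (hU : Dense (U₀ : Set X)) (hU' : Dense ((π ⁻¹ᵁ U₀ : Y.Opens) : Set Y)) [IsIso (π ∣_ U₀)]

/-- Nonzero functions are regular on the sections of torsion free modules. -/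
theorem eq_zero_of_smul {E : Y.Modules} (hE : TorSh.IsTorsionFree E) {W : Y.Opens} {a : Γ(Y, W)} (ha : a ≠ 0)
    (s : Γ(E, W)) (h : a • s = 0) : s = 0 := by
  refine CycLib.PushSheaf.eq_of_germs (M := E) (U := W) _ _ fun z hz => ?_
  rw [map_zero]
  have h1 : Y.presheaf.germ W z hz a • (E.presheaf.germ W z hz s : E.presheaf.stalk z) = 0 := by
    refine (PresheafOfModules.germ_smul (M := E.val) z W hz a s).symm.trans ?_
    show E.presheaf.germ W z hz (a • s) = 0
    rw [h, map_zero]
  haveI : Module.IsTorsionFree (Y.presheaf.stalk z) (E.presheaf.stalk z) := hE z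
  refine (smul_eq_zero.1 h1).resolve_left fun h0 => ha ?_
  exact germ_injective_of_isIntegral Y z hz (h0.trans (map_zero _).symm)

theorem isTorsionFree_of_finLocFree {n : ℕ} {E : Y.Modules} (hE : FlatMod.IsFinLocFreeOfRank n E) :
    TorSh.IsTorsionFree E := fun y => by
  haveI := QCoh.free_stalk_of_isFinLocFree (fun z => let ⟨W, hz, h⟩ := hE z; ⟨W, n, hz, h⟩ : FlatMod.IsFinLocFree E) y
  show Module.IsTorsionFree (Y.presheaf.stalk y) (E.presheaf.stalk y)
  infer_instance

/-- A denominator: `t ≠ 0` on `π⁻¹V` with `t Γ(O_Y) ⊆ Γ(O_X)`. -/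
theorem exists_denom {V : X.Opens} (hV : IsAffineOpen V) (hne : Nonempty (π ⁻¹ᵁ V : Y.Opens))
    (hU : Dense (U₀ : Set X)) (hU' : Dense ((π ⁻¹ᵁ U₀ : Y.Opens) : Set Y)) :
    ∃ t : Γ(X, V), π.app V t ≠ 0 ∧ ∀ z : Γ(Y, π ⁻¹ᵁ V), ∃ r, π.app V r = π.app V t * z := by
  obtain ⟨t, ht, hden⟩ := NodePush7.exists_den π hU hU' hV
  refine ⟨t, fun h0 => ?_, hden⟩
  have := ht 1 (by rw [h0, zero_mul])
  exact one_ne_zero this

theorem app_smul {A B : X.Modules} (φ : A ⟶ B) {V : X.Opens} (r : Γ(X, V)) (m : Γ(A, V)) :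
    φ.app V (r • m) = r • φ.app V m :=
  map_smul (φ.val.app (op V)).hom r m

theorem appY_smul {A B : Y.Modules} (φ : A ⟶ B) {W : Y.Opens} (r : Γ(Y, W)) (m : Γ(A, W)) :
    φ.app W (r • m) = r • φ.app W m :=
  map_smul (φ.val.app (op W)).hom r m

include hU hU' in
/-- Maps of direct images of torsion free modules come from maps of the modules. -/
theorem exists_hom {E E' : Y.Modules} (hE : Coh.IsQCoh E) (hE' : Coh.IsQCoh E') (htE' : TorSh.IsTorsionFree E')
    (φ : (Scheme.Modules.pushforward π).obj E ⟶ (Scheme.Modules.pushforward π).obj E') :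
    ∃ ψ : E ⟶ E', (Scheme.Modules.pushforward π).map ψ = φ := by
  let P := Scheme.Modules.pushforward π
  let adj := Scheme.Modules.pullbackPushforwardAdjunction π
  let G := (Scheme.Modules.pullback π).obj (P.obj E)
  let ε : G ⟶ E := adj.counit.app E
  haveI : Epi ε := AmpleVan.QAEpi.epi_counit_of_isQuasiAffine π ⟨inferInstance, fun V hV => by
    haveI : IsAffine ((π ⁻¹ᵁ V : Y.Opens) : Scheme.{u}) := hV.preimage π
    infer_instance⟩ hE
  let g : G ⟶ E' := (Scheme.Modules.pullback π).map φ ≫ adj.counit.app E'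
  have hPE : Coh.IsQCoh (P.obj E) := QCoh.isQCoh_pushforward π hE
  have hG : Coh.IsQCoh G := QCoh.isQCoh_pullback π hPE
  have key : kernel.ι ε ≫ g = 0 := by
    refine QCoh.hom_eq_zero_of_cover (QCoh.isQCoh_kernel hG hE ε) hE' _
      (fun V : X.affineOpens => π ⁻¹ᵁ V.1) (fun V => V.2.preimage π) (fun y => ?_) fun V k => ?_
    · obtain ⟨V, hV, hy⟩ := QCoh.exists_affine_mem (π y)
      exact ⟨⟨V, hV⟩, hy⟩
    · obtain ⟨V, hV⟩ := V
      let z : Γ(G, π ⁻¹ᵁ V) := (kernel.ι ε).app (π ⁻¹ᵁ V) k
      have hz : ε.app (π ⁻¹ᵁ V) z = 0 := congr(($(kernel.condition ε)).app (π ⁻¹ᵁ V) k)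
      show g.app (π ⁻¹ᵁ V) z = 0
      by_cases hne : Nonempty (π ⁻¹ᵁ V : Y.Opens)
      swap
      · exact CycLib.PushSheaf.eq_of_germs (M := E') (U := π ⁻¹ᵁ V) _ _ fun y hy => absurd ⟨⟨y, hy⟩⟩ hne
      obtain ⟨t, ht, hden⟩ := exists_denom π hV hne hU hU'
      letI := NodePush7.appAlg π V
      letI := NodePush7.appMod π G V
      haveI : IsScalarTower Γ(X, V) Γ(Y, π ⁻¹ᵁ V) Γ(G, π ⁻¹ᵁ V) :=
        IsScalarTower.of_algebraMap_smul fun _ _ => rfl
      obtain ⟨l, hl, hbc⟩ := ExistEasy.exists_pullSec_baseChange π hPE (hV.preimage π) hV le_rfl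
      have hl' : ∀ m, l m = (adj.unit.app (P.obj E)).app V m := fun m => by
        rw [hl]; unfold QCoh.pullSec; simp; rfl
      have hεl : ∀ m, ε.app (π ⁻¹ᵁ V) (l m) = m := fun m => by
        rw [hl']
        exact congr(($(adj.right_triangle_components E)).app V m)
      have hsp : z ∈ Submodule.span Γ(Y, π ⁻¹ᵁ V) (Set.range l) := by
        refine IsBaseChange.inductionOn hbc z _ (zero_mem _) (fun m => Submodule.subset_span ⟨m, rfl⟩)
          (fun b w hw => Submodule.smul_mem _ b hw) fun a c ha hc => add_mem ha hc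
      -- `t z` comes from `Γ(E)`
      have hall : ∀ w ∈ Submodule.span Γ(Y, π ⁻¹ᵁ V) (Set.range l), ∀ b : Γ(Y, π ⁻¹ᵁ V),
          ∃ m, (π.app V t * b) • w = l m := by
        intro w hw
        induction hw using Submodule.span_induction with
        | mem y hy =>
          obtain ⟨m, rfl⟩ := hy
          intro b
          obtain ⟨r, hr⟩ := hden b
          refine ⟨r • m, ?_⟩
          rw [map_smul, ← hr]
          show π.app V r • l m = π.appLE V (π ⁻¹ᵁ V) le_rfl r • l m
          exact congrArg (fun b => b • l m) (congr($(Scheme.Hom.app_eq_appLE π (U := V)) r))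
        | zero => exact fun b => ⟨0, by rw [smul_zero, map_zero]⟩
        | add a c _ _ ha hc =>
          intro b
          obtain ⟨m₁, h₁⟩ := ha b
          obtain ⟨m₂, h₂⟩ := hc b
          exact ⟨m₁ + m₂, by rw [map_add, smul_add, h₁, h₂]⟩
        | smul c a _ ha =>
          intro b
          obtain ⟨m, hm⟩ := ha (b * c)
          exact ⟨m, by rw [← hm, smul_smul, mul_assoc]⟩
      obtain ⟨m, hm⟩ := hall z hsp 1
      rw [mul_one] at hm
      have hm0 : m = 0 := by
        have h1 := congrArg (ε.app (π ⁻¹ᵁ V)) hm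
        rw [appY_smul, hz, smul_zero, hεl] at h1
        exact h1.symm
      rw [hm0, map_zero] at hm
      refine eq_zero_of_smul htE' ht _ ?_
      rw [← appY_smul, hm, map_zero]
  refine ⟨Abelian.epiDesc ε g key, ?_⟩
  have h1 : ε ≫ Abelian.epiDesc ε g key = g := Abelian.comp_epiDesc _ _ _
  have h2 : ∀ χ : E ⟶ E', adj.unit.app (P.obj E) ≫ P.map (ε ≫ χ) = P.map χ := fun χ => by
    rw [P.map_comp]
    exact adj.right_triangle_components_assoc _ _
  rw [← h2, h1]
  show adj.unit.app _ ≫ P.map ((Scheme.Modules.pullback π).map φ ≫ adj.counit.app E') = φ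
  rw [P.map_comp]
  exact (adj.unit_naturality_assoc φ _).trans
    ((congrArg (φ ≫ ·) (adj.right_triangle_components E')).trans (Category.comp_id φ))

theorem map_injective {E E' : Y.Modules} (hE : Coh.IsQCoh E) (a b : E ⟶ E')
    (h : (Scheme.Modules.pushforward π).map a = (Scheme.Modules.pushforward π).map b) : a = b := by
  let adj := Scheme.Modules.pullbackPushforwardAdjunction π
  haveI : Epi (adj.counit.app E) := AmpleVan.QAEpi.epi_counit_of_isQuasiAffine π ⟨inferInstance, fun V hV => by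
    haveI : IsAffine ((π ⁻¹ᵁ V : Y.Opens) : Scheme.{u}) := hV.preimage π
    infer_instance⟩ hE
  rw [← cancel_epi (adj.counit.app E)]
  exact (adj.counit_naturality a).symm.trans
    ((congrArg (fun χ => (Scheme.Modules.pullback π).map χ ≫ adj.counit.app E') h).trans (adj.counit_naturality b))

include hU hU' in
theorem nonempty_iso {E E' : Y.Modules} (hE : Coh.IsQCoh E) (hE' : Coh.IsQCoh E') (htE : TorSh.IsTorsionFree E)
    (htE' : TorSh.IsTorsionFree E')
    (e : (Scheme.Modules.pushforward π).obj E ≅ (Scheme.Modules.pushforward π).obj E') : Nonempty (E ≅ E') := by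
  obtain ⟨ψ, hψ⟩ := exists_hom π hU hU' hE hE' htE' e.hom
  obtain ⟨ψ', hψ'⟩ := exists_hom π hU hU' hE' hE htE e.inv
  exact ⟨⟨ψ, ψ', map_injective π hE _ _ (by rw [Functor.map_comp, hψ, hψ', e.hom_inv_id, CategoryTheory.Functor.map_id]),
    map_injective π hE' _ _ (by rw [Functor.map_comp, hψ, hψ', e.inv_hom_id, CategoryTheory.Functor.map_id])⟩⟩

end Groth.Agent.NormPush7
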