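import Groth.Agent.NormPush7.Basic
import Groth.Agent.CurveCohLib.SubBundle
import Groth.Agent.RefX.Reflexive
import Groth.Agent.CurvFree7.Main
import Groth.Agent.KFlatLib.Scheme.Pullback

/-! Modules with stalks free over the integral closures are direct images of locally free modules. -/

set_option autoImplicit false
set_option linter.style.haveILetI false
set_option linter.unusedSectionVars false
set_option backward.isDefEq.respectTransparency false
set_option backward.isDefEq.respectTransparency.types false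
set_option maxHeartbeats 2000000

universe u

noncomputable section

open CategoryTheory CategoryTheory.Limits AlgebraicGeometry TopologicalSpace Opposite

namespace Groth.Agent.NormPush7

open Groth.Agent

set_option synthInstance.maxHeartbeats 200000

variable {X Y : Scheme.{u}} [IsIntegral X] [IsLocallyNoetherian X] [IsIntegral Y] (π : Y ⟶ X) [IsFinite π]
  {U₀ : X.Opens} (hU : Dense (U₀ : Set X)) (hU' : Dense ((π ⁻¹ᵁ U₀ : Y.Opens) : Set Y)) [IsIso (π ∣_ U₀)]

include hU hU' in
/-- The fraction `r/t` of a section upstairs is integral over the local ring. -/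
theorem exists_integral {V : X.Opens} (hV : IsAffineOpen V) (hne : Nonempty (π ⁻¹ᵁ V : Y.Opens)) {x : X} (hx : x ∈ V)
    {t : Γ(X, V)} (ht : π.app V t ≠ 0) (z : Γ(Y, π ⁻¹ᵁ V)) {r : Γ(X, V)} (hr : π.app V r = π.app V t * z) :
    ∃ c : integralClosure (X.presheaf.stalk x) X.functionField,
      X.presheaf.germ V x hx t • c = algebraMap (X.presheaf.stalk x) _ (X.presheaf.germ V x hx r) := by
  haveI : Nonempty (V : X.Opens) := ⟨⟨x, hx⟩⟩
  letI := NodePush7.appAlg π V
  haveI : Module.Finite Γ(X, V) Γ(Y, π ⁻¹ᵁ V) := by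
    have := π.finite_app V hV
    rw [Scheme.Hom.app_eq_appLE] at this
    exact this
  have hinj : Function.Injective (π.app V) := by
    rw [Scheme.Hom.app_eq_appLE]
    exact NodePush7.app_inj π hU V
  let K : Type u := X.functionField
  let κ : Γ(X, V) →+* K := (X.germToFunctionField V).hom
  have hκ : Function.Injective κ := Scheme.germToFunctionField_injective X V
  have htK : κ t ≠ 0 := fun h => ht (by rw [hκ (h.trans (map_zero κ).symm), map_zero])
  obtain ⟨P, hP, hPz⟩ := Algebra.IsIntegral.isIntegral (R := Γ(X, V)) z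
  have happ : ∀ a, algebraMap Γ(X, V) Γ(Y, π ⁻¹ᵁ V) a = π.app V a := fun a => by
    show π.appLE V (π ⁻¹ᵁ V) le_rfl a = _
    rw [Scheme.Hom.app_eq_appLE]
  -- clear denominators in the equation of `z`
  have h1 : Polynomial.eval r (P.scaleRoots t) = 0 := by
    refine hinj ?_
    rw [map_zero, ← happ, ← Polynomial.eval₂_at_apply, happ, hr, ← happ]
    exact Polynomial.scaleRoots_eval₂_eq_zero _ hPz
  have h2 : Polynomial.eval₂ κ (κ r / κ t) P = 0 := by
    have h3 : Polynomial.eval₂ κ (κ r) (P.scaleRoots t) = 0 := by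
      rw [Polynomial.eval₂_at_apply, h1, map_zero]
    have e : κ r = κ t * (κ r / κ t) := (mul_div_cancel₀ _ htK).symm
    rw [e, Polynomial.scaleRoots_eval₂_mul] at h3
    exact (mul_eq_zero.1 h3).resolve_left (pow_ne_zero _ htK)
  have hg : ∀ a : Γ(X, V), algebraMap (X.presheaf.stalk x) K (X.presheaf.germ V x hx a) = κ a := fun a =>
    Scheme.algebraMap_germ_eq_germToFunctionField X hx a
  have h4 : IsIntegral (X.presheaf.stalk x) (κ r / κ t) := by
    refine ⟨P.map (X.presheaf.germ V x hx).hom, hP.map _, ?_⟩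
    rw [Polynomial.eval₂_map]
    have e : (algebraMap (X.presheaf.stalk x) K).comp (X.presheaf.germ V x hx).hom = κ := RingHom.ext hg
    rw [e]; exact h2
  refine ⟨⟨κ r / κ t, h4⟩, Subtype.ext ?_⟩
  show X.presheaf.germ V x hx t • (κ r / κ t) = algebraMap (X.presheaf.stalk x) K (X.presheaf.germ V x hx r)
  rw [Algebra.smul_def, hg, hg]
  exact mul_div_cancel₀ _ htK

include hU hU' in
/-- A map `F → π_*E` generating `E` is surjective on stalks where `F` is a module over the integral closure. -/
theorem beta_surjective {F : X.Modules} (hF : Coh.IsQCoh F) {E : Y.Modules} (hE : Coh.IsQCoh E)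
    (htE : TorSh.IsTorsionFree E) (p : (Scheme.Modules.pullback π).obj F ⟶ E) [Epi p] (x : X) {n : ℕ}
    (e : F.presheaf.stalk x ≃ₗ[X.presheaf.stalk x] (Fin n → integralClosure (X.presheaf.stalk x) X.functionField)) :
    Function.Surjective (RefHull.stalkMapₗ
      ((Scheme.Modules.pullbackPushforwardAdjunction π).unit.app F ≫ (Scheme.Modules.pushforward π).map p) x) := by
  classical
  let P := Scheme.Modules.pushforward π
  let β := (Scheme.Modules.pullbackPushforwardAdjunction π).unit.app F ≫ P.map p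
  obtain ⟨V, hV, hxV⟩ := QCoh.exists_affine_mem x
  let G := (Scheme.Modules.pullback π).obj F
  by_cases hne : Nonempty (π ⁻¹ᵁ V : Y.Opens)
  swap
  · haveI : Subsingleton ((P.obj E).presheaf.stalk x) := subsingleton_of_forall_eq 0 fun q =>
      NodeNorm7.proj_injective π x E q fun y hy => absurd ⟨⟨y, show π y ∈ V from hy ▸ hxV⟩⟩ hne
    exact fun q => ⟨0, Subsingleton.elim (α := (P.obj E).presheaf.stalk x) _ _⟩
  obtain ⟨t, ht, hden⟩ := exists_denom π hV hne hU hU'
  letI := NodePush7.appAlg π V
  letI := NodePush7.appMod π G V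
  letI := NodePush7.appMod π E V
  letI := QCoh.stalkAlg (X := X) hxV
  letI := QCoh.stalkModule F hxV
  letI := QCoh.stalkModule (P.obj E) hxV
  haveI := QCoh.isScalarTower_stalk F hxV
  haveI := QCoh.isScalarTower_stalk (P.obj E) hxV
  haveI : IsScalarTower Γ(X, V) Γ(Y, π ⁻¹ᵁ V) Γ(G, π ⁻¹ᵁ V) := IsScalarTower.of_algebraMap_smul fun _ _ => rfl
  haveI := NodePush7.pushGerm_loc π hE hV hxV
  let gm := NodePush7.pushGerm π E V hxV
  obtain ⟨l, hl, hbc⟩ := ExistEasy.exists_pullSec_baseChange π hF (hV.preimage π) hV le_rfl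
  -- `t` is regular on the stalk
  have htreg : ∀ q : (P.obj E).presheaf.stalk x, X.presheaf.germ V x hxV t • q = 0 → q = 0 := by
    intro q hq
    obtain ⟨⟨m, s⟩, hm⟩ := IsLocalizedModule.surj (hV.primeIdealOf ⟨x, hxV⟩).asIdeal.primeCompl gm q
    have h1 : gm (t • m) = gm 0 := by
      rw [map_zero, map_smul, ← hm, smul_comm]
      show (s : Γ(X, V)) • (X.presheaf.germ V x hxV t • q) = 0
      rw [hq, smul_zero]
    obtain ⟨c, hc⟩ := IsLocalizedModule.exists_of_eq (S := (hV.primeIdealOf ⟨x, hxV⟩).asIdeal.primeCompl) h1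
    rw [smul_zero] at hc
    have hc0 : π.app V (c : Γ(X, V)) ≠ 0 := fun h => c.2 (by
      have h5 : (c : Γ(X, V)) = 0 := by
        have hinj := NodePush7.app_inj π hU V
        rw [← Scheme.Hom.app_eq_appLE] at hinj
        exact hinj (h.trans (map_zero _).symm)
      rw [h5]; exact Ideal.zero_mem _)
    have hc' : π.app V (c : Γ(X, V)) • (π.app V t • m) = 0 := by
      have : π.appLE V (π ⁻¹ᵁ V) le_rfl (c : Γ(X, V)) • (π.appLE V (π ⁻¹ᵁ V) le_rfl t • m) = 0 := hc
      rwa [← Scheme.Hom.app_eq_appLE] at this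
    have hm0 : m = 0 := eq_zero_of_smul htE ht m (eq_zero_of_smul htE hc0 _ hc')
    rw [hm0, map_zero] at hm
    exact (IsLocalizedModule.smul_inj gm s q 0).1 (hm.trans (smul_zero _).symm)
  have hβ : ∀ m, RefHull.stalkMapₗ β x (QCoh.germLin F hxV m) = gm (p.app (π ⁻¹ᵁ V) (l m)) := fun m => by
    refine (RefHull.stalkMapₗ_germ _ x hxV m).trans ?_
    rw [hl]
    unfold QCoh.pullSec
    simp [gm, NodePush7.pushGerm, NodePush7.pushEquiv, QCoh.germLin]
    rfl
  have key : ∀ w : Γ(G, π ⁻¹ᵁ V), gm (p.app (π ⁻¹ᵁ V) w) ∈ LinearMap.range (RefHull.stalkMapₗ β x) := by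
    intro w
    refine IsBaseChange.inductionOn hbc w _ ⟨0, by rw [map_zero, map_zero, map_zero]⟩ (fun m => ⟨_, hβ m⟩) ?_ ?_
    · intro b a ha
      obtain ⟨v, hv⟩ := ha
      obtain ⟨r, hr⟩ := hden b
      obtain ⟨c, hc⟩ := exists_integral π hU hU' hV hne hxV ht b hr
      let v' := e.symm fun i => c * e v i
      have hv' : X.presheaf.germ V x hxV t • v' = X.presheaf.germ V x hxV r • v := by
        apply e.injective
        rw [map_smul, map_smul, e.apply_symm_apply]
        funext i
        show X.presheaf.germ V x hxV t • (c * e v i) = X.presheaf.germ V x hxV r • e v i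
        rw [← smul_mul_assoc, hc, Algebra.smul_def]
      refine ⟨v', sub_eq_zero.1 (htreg _ ?_)⟩
      rw [smul_sub, ← map_smul, hv', map_smul, hv]
      show r • gm (p.app (π ⁻¹ᵁ V) a) - t • gm (p.app (π ⁻¹ᵁ V) (b • a)) = 0
      rw [appY_smul, ← map_smul gm r, ← map_smul gm t, ← map_sub]
      refine (congrArg gm ?_).trans (map_zero gm)
      show π.appLE V (π ⁻¹ᵁ V) le_rfl r • p.app (π ⁻¹ᵁ V) a -
        π.appLE V (π ⁻¹ᵁ V) le_rfl t • (b • p.app (π ⁻¹ᵁ V) a) = 0
      rw [← Scheme.Hom.app_eq_appLE, smul_smul, hr, sub_self]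
    · intro a b ha hb
      rw [map_add, map_add]
      exact add_mem ha hb
  intro q
  obtain ⟨⟨m, s⟩, hm⟩ := IsLocalizedModule.surj (hV.primeIdealOf ⟨x, hxV⟩).asIdeal.primeCompl gm q
  obtain ⟨w, rfl⟩ := QCoh.app_surjective_of_epi (QCoh.isQCoh_pullback π hF) hE p (hV.preimage π) m
  obtain ⟨v, hv⟩ := key w
  haveI : IsLocalization.AtPrime (X.presheaf.stalk x) (hV.primeIdealOf ⟨x, hxV⟩).asIdeal :=
    QCoh.isLocalization_stalk' hV hxV
  obtain ⟨u, hu⟩ := (IsLocalization.map_units (X.presheaf.stalk x) s).exists_left_inv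
  refine ⟨u • v, ?_⟩
  rw [map_smul, hv, ← hm]
  show u • ((s : Γ(X, V)) • q) = q
  rw [← algebraMap_smul (X.presheaf.stalk x) (s : Γ(X, V)) q, smul_smul, hu, one_smul]

theorem finrank_stalk_generic {F : X.Modules} {x : X} (hx : x = genericPoint X) {n : ℕ}
    (e : F.presheaf.stalk x ≃ₗ[X.presheaf.stalk x] (Fin n → integralClosure (X.presheaf.stalk x) X.functionField)) :
    Module.finrank (X.presheaf.stalk x) (F.presheaf.stalk x) = n := by
  let L := Algebra.linearMap (X.presheaf.stalk x) (integralClosure (X.presheaf.stalk x) X.functionField)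
  have hid : ∀ c : X.functionField, ∃ a, algebraMap (X.presheaf.stalk x) X.functionField a = c := fun c => by
    obtain ⟨U, hU, s, rfl⟩ := X.presheaf.exists_germ_eq (x := genericPoint X) c
    haveI : Nonempty (U : X.Opens) := ⟨⟨_, hU⟩⟩
    exact ⟨X.presheaf.germ U x (hx ▸ hU) s, Scheme.algebraMap_germ_eq_germToFunctionField X _ s⟩
  have hinj : Function.Injective (algebraMap (X.presheaf.stalk x) X.functionField) := by
    intro a b h
    obtain ⟨U, hU, s, rfl⟩ := X.presheaf.exists_germ_eq (x := x) a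
    obtain ⟨U', hU', s', rfl⟩ := X.presheaf.exists_germ_eq (x := x) b
    haveI : Nonempty (U : X.Opens) := ⟨⟨_, hU⟩⟩
    haveI : Nonempty (U' : X.Opens) := ⟨⟨_, hU'⟩⟩
    rw [Scheme.algebraMap_germ_eq_germToFunctionField X hU, Scheme.algebraMap_germ_eq_germToFunctionField X hU'] at h
    subst hx
    exact h
  have hL : Function.Bijective L := ⟨fun a b h => hinj (congrArg Subtype.val h), fun c => by
    obtain ⟨a, ha⟩ := hid c
    exact ⟨a, Subtype.ext ha⟩⟩
  refine e.finrank_eq.trans ((LinearEquiv.piCongrRight fun _ : Fin n =>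
    LinearEquiv.ofBijective L hL).finrank_eq.symm.trans ?_)
  exact Module.finrank_fin_fun _

include hU hU' in
/-- A coherent module with stalks free of rank `n` over the integral closures is a direct image. -/
theorem exists_model [IsLocallyNoetherian Y] (hpid : ∀ y : Y, IsPrincipalIdealRing (Y.presheaf.stalk y))
    (hgen : π (genericPoint Y) = genericPoint X) {F : X.Modules} (hF : Coh.IsCoh F) (n : ℕ)
    (he : ∀ x : X, Nonempty (F.presheaf.stalk x ≃ₗ[X.presheaf.stalk x]
      (Fin n → integralClosure (X.presheaf.stalk x) X.functionField))) :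
    ∃ E : Y.Modules, FlatMod.IsFinLocFreeOfRank n E ∧ Nonempty ((Scheme.Modules.pushforward π).obj E ≅ F) := by
  classical
  let G := (Scheme.Modules.pullback π).obj F
  have hG : Coh.IsCoh G := ZClosLib.isCoh_pullback π hF
  let bd := RefHull.bidualMap G
  have hD : Coh.IsCoh (RefHull.dual (RefHull.dual G)) := RefX.isCoh_dual (RefX.isCoh_dual hG)
  let E := Abelian.image bd
  let p : G ⟶ E := Abelian.factorThruImage bd
  have hE : Coh.IsCoh E := QCoh.isCoh_kernel hD (QCoh.isCoh_cokernel hG.1 hD bd) _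
  have htE : TorSh.IsTorsionFree E :=
    TFQuot7.isTorsionFree_of_mono (CurvFree7.isTorsionFree_dual (RefX.isCoh_dual hG)) (Abelian.image.ι bd)
  have hfr : FlatMod.IsFinLocFree E := QCoh.isFinLocFree_iff.2 ⟨QCoh.isCoh_iff_isFP.1 hE, fun y => by
    haveI := hpid y
    haveI : Module.IsTorsionFree (Y.presheaf.stalk y) (E.presheaf.stalk y) := htE y
    haveI : Module.Finite (Y.presheaf.stalk y) (E.presheaf.stalk y) :=
      QCoh.finite_stalk_of_isFT hE.1 (QCoh.isFT_of_isFP (QCoh.isCoh_iff_isFP.1 hE)) y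
    exact Module.free_of_finite_type_torsion_free'⟩
  -- the generic ranks
  let η := genericPoint X
  let η' := genericPoint Y
  have hclo : Module.finrank (X.presheaf.stalk η) (F.presheaf.stalk η) = n := finrank_stalk_generic rfl (he η).some
  have hrkG : Module.finrank (Y.presheaf.stalk η') (G.presheaf.stalk η') = n := by
    letI := (π.stalkMap η').hom.toAlgebra
    haveI : Nontrivial (Y.presheaf.stalk η') := inferInstance
    let ε := ((KFlatLib.stalkPullbackIso π η').app F).toLinearEquiv
    refine ε.finrank_eq.trans ?_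
    have hclo' : Module.finrank (X.presheaf.stalk (π η')) (F.presheaf.stalk (π η')) = n := by rw [hgen]; exact hclo
    haveI : Module.Free (X.presheaf.stalk (π η')) (F.presheaf.stalk (π η')) := by
      rw [hgen]
      letI := (CurveBundle.isField_stalk_generic (X := X)).toField
      exact Module.Free.of_divisionRing _ _
    haveI : Module.Free (X.presheaf.stalk (π η')) ((DerSch.stalkFunctor X (π η')).obj F) :=
      ‹Module.Free (X.presheaf.stalk (π η')) (F.presheaf.stalk (π η'))›
    exact (Module.finrank_baseChange).trans hclo'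
  have hbd : Function.Bijective (RefHull.stalkMapₗ bd η') := by
    refine (RefX.stalkMap_bidual_bijective_iff hG η').2 ?_
    letI := (CurveBundle.isField_stalk_generic (X := Y)).toField
    haveI : Module.Finite (Y.presheaf.stalk η') (G.presheaf.stalk η') :=
      QCoh.finite_stalk_of_isFT hG.1 (QCoh.isFT_of_isFP (QCoh.isCoh_iff_isFP.1 hG)) η'
    show Module.IsReflexive (Y.presheaf.stalk η') (G.presheaf.stalk η')
    infer_instance
  have hfac : p ≫ Abelian.image.ι bd = bd := Abelian.image.fac bd
  have hp : Function.Bijective (RefHull.stalkMapₗ p η') := by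
    refine ⟨fun a b h => hbd.1 ?_, ?_⟩
    · rw [← hfac, HomShX.stalkMapₗ_comp, LinearMap.comp_apply, LinearMap.comp_apply, h]
    · exact (ModuleCat.epi_iff_surjective ((DerSch.stalkFunctor Y η').map p)).1 inferInstance
  have hrkE : CurveCohLib.genRank E = n :=
    ((LinearEquiv.ofBijective _ hp).finrank_eq).symm.trans hrkG
  have hEn : FlatMod.IsFinLocFreeOfRank n E := hrkE ▸ CurveCohLib.isFinLocFreeOfRank_genRank hfr
  let P := Scheme.Modules.pushforward π
  let β := (Scheme.Modules.pullbackPushforwardAdjunction π).unit.app F ≫ P.map p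
  have hs : ∀ x, Function.Surjective (RefHull.stalkMapₗ β x) := fun x =>
    beta_surjective π hU hU' hF.1 hE.1 htE p x (he x).some
  -- injectivity at the generic point
  have hinjη : Function.Injective (RefHull.stalkMapₗ β η) := by
    letI := (CurveBundle.isField_stalk_generic (X := X)).toField
    haveI : Module.Finite (X.presheaf.stalk η) (F.presheaf.stalk η) :=
      QCoh.finite_stalk_of_isFT hF.1 (QCoh.isFT_of_isFP (QCoh.isCoh_iff_isFP.1 hF)) η
    obtain ⟨U₁, hηU₁, ⟨ι₁⟩⟩ := FittX.exists_trivial_over_preimage π E hEn η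
    obtain ⟨_, ⟨V, hV, rfl⟩, hηV, hle⟩ :=
      X.isBasis_affineOpens.exists_subset_of_mem_open (show η ∈ U₁ from hηU₁) U₁.2
    obtain ⟨l₁⟩ := QCoh.free_sections (hV.preimage π) (π.preimage_mono (fun z hz => hle hz)) ι₁
    letI := NodePush7.appAlg π V
    letI := NodePush7.appMod π E V
    letI := QCoh.stalkAlg (X := X) hηV
    letI := QCoh.stalkModule (P.obj E) hηV
    haveI := QCoh.isScalarTower_stalk (P.obj E) hηV
    haveI := NodePush7.pushGerm_loc π hE.1 hV hηV
    haveI : IsLocalization.AtPrime (X.presheaf.stalk η) (hV.primeIdealOf ⟨η, hηV⟩).asIdeal :=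
      QCoh.isLocalization_stalk' hV hηV
    let w : Fin n → Γ(E, π ⁻¹ᵁ V) := fun i => l₁.symm (Finsupp.single (ULift.up i) 1)
    have hw : LinearIndependent Γ(X, V) w := by
      rw [Fintype.linearIndependent_iff]
      intro g hg i
      have h0 : l₁ (∑ j, g j • w j) = 0 := by rw [hg, map_zero]
      have h1 : (l₁ (∑ j, g j • w j)) (ULift.up i) = π.appLE V (π ⁻¹ᵁ V) le_rfl (g i) := by
        rw [map_sum, Finsupp.finsetSum_apply]
        rw [Finset.sum_eq_single i (fun j _ hj => ?_) (by simp)]
        · show l₁ (π.appLE V (π ⁻¹ᵁ V) le_rfl (g i) • w i) (ULift.up i) = _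
          rw [map_smul]; simp [w]
        · show l₁ (π.appLE V (π ⁻¹ᵁ V) le_rfl (g j) • w j) (ULift.up i) = _
          rw [map_smul]; simp [w, hj.symm]
      rw [h0] at h1
      exact NodePush7.app_inj π hU V (h1.symm.trans (map_zero _).symm)
    have hw' := hw.of_isLocalizedModule (X.presheaf.stalk η) (hV.primeIdealOf ⟨η, hηV⟩).asIdeal.primeCompl
      (NodePush7.pushGerm π E V hηV)
    let β' : F.presheaf.stalk η →ₗ[X.presheaf.stalk η] (P.obj E).presheaf.stalk η := RefHull.stalkMapₗ β η
    have hle' : n ≤ Module.finrank (X.presheaf.stalk η) ((P.obj E).presheaf.stalk η) := by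
      haveI : Module.Finite (X.presheaf.stalk η) ((P.obj E).presheaf.stalk η) :=
        Module.Finite.of_surjective β' (hs η)
      simpa using hw'.fintype_card_le_finrank
    haveI : Module.Finite (X.presheaf.stalk η) ((P.obj E).presheaf.stalk η) := Module.Finite.of_surjective β' (hs η)
    have hsum := β'.finrank_range_add_finrank_ker
    rw [LinearMap.range_eq_top.2 (hs η), finrank_top, hclo] at hsum
    have hz : LinearMap.ker β' = ⊥ := Submodule.finrank_eq_zero.1 (by omega)
    exact (LinearMap.ker_eq_bot.1 hz : Function.Injective β')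
  have htF : TorSh.IsTorsionFree F := fun x => by
    haveI : Module.IsTorsionFree (X.presheaf.stalk x) (integralClosure (X.presheaf.stalk x) X.functionField) :=
      (Subtype.val_injective).moduleIsTorsionFree _ (fun _ _ => rfl)
    exact (he x).some.injective.moduleIsTorsionFree _ (fun r m => map_smul _ r m)
  haveI : Mono β := Preadditive.mono_of_kernel_zero ((TFQuot7.det_of_tf hF.1 htF).hom_eq_zero _ fun y hf v => by
    obtain rfl := CurvFree7.eq_genericPoint hf
    refine hinjη ?_
    rw [map_zero]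
    show RefHull.stalkMapₗ β η (RefHull.stalkMapₗ (kernel.ι β) η v) = 0
    rw [← LinearMap.comp_apply, ← HomShX.stalkMapₗ_comp, kernel.condition]
    exact LinearMap.congr_fun (CycK.sl_zero η) v)
  haveI : Epi β := HomShX.epi_of_stalk _ hs
  haveI : IsIso β := isIso_of_mono_of_epi β
  exact ⟨E, hEn, ⟨(asIso β).symm⟩⟩

end Groth.Agent.NormPush7
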