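import Groth.Agent.NormPush7.Ess
import Groth.Agent.NormCurve.Scheme
import Groth.Agent.NormCurve.Delta
import Groth.Agent.NagataLib.Scheme

/-! Local rings of the normalisation of a curve. -/

set_option autoImplicit false
set_option linter.style.haveILetI false
set_option backward.isDefEq.respectTransparency false
set_option backward.isDefEq.respectTransparency.types false

universe u

open CategoryTheory CategoryTheory.Limits AlgebraicGeometry TopologicalSpace

namespace Groth.Agent.NormPush7

open Groth.Agent

variable (X : Scheme.{u}) [IsIntegral X]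
  [QuasiCompact (X.fromSpecStalk (genericPoint X))] [QuasiSeparated (X.fromSpecStalk (genericPoint X))]

theorem isPrincipalIdealRing_stalk_normalization [IsLocallyNoetherian X] (hdim : topologicalKrullDim X ≤ 1) (y : Curv2.normalization X) :
    IsPrincipalIdealRing ((Curv2.normalization X).presheaf.stalk y) := by
  haveI : IsIntegral (Curv2.normalization X) :=
    inferInstanceAs (IsIntegral (X.fromSpecStalk (genericPoint X)).normalization)
  obtain ⟨V, hV, hy⟩ := QCoh.exists_affine_mem y
  haveI : Nonempty (V : (Curv2.normalization X).Opens) := ⟨⟨y, hy⟩⟩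
  haveI := NormCurve.isDedekindDomain_affineOpen X hdim hV ⟨y, hy⟩
  letI := (Curv2.normalization X).presheaf.algebra_section_stalk ⟨y, hy⟩
  haveI := hV.isLocalization_stalk ⟨y, hy⟩
  haveI := IsLocalization.AtPrime.isDedekindDomain Γ(Curv2.normalization X, V) (hV.primeIdealOf ⟨y, hy⟩).asIdeal
    ((Curv2.normalization X).presheaf.stalk y)
  refine IsPrincipalIdealRing.of_finite_primes ?_
  refine ((Set.finite_singleton (IsLocalRing.maximalIdeal ((Curv2.normalization X).presheaf.stalk y))).insert ⊥).subset
    fun I hI => ?_
  by_cases h : I = ⊥
  · exact Or.inl h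
  · exact Or.inr (IsLocalRing.eq_maximalIdeal (Ideal.IsPrime.isMaximal hI h))

end Groth.Agent.NormPush7
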